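import Cfsg.Agent.H514.K547.Defs

/-!
# S4547: almost simple groups with cyclic factor group (helper901, task 5110, [K3])
-/

set_option autoImplicit false

namespace Cfsg.Agent.H901.K547

open Cfsg Subgroup Cfsg.Agent.H601.K4 Cfsg.Agent.H821.K547 Cfsg.Agent.H514.K547

universe u

/-- `Rk` is invariant under isomorphisms -/
theorem rk_congr {P Q : Type u} [Group P] [Group Q] (e : P ≃* Q) (n : ℕ) : Rk n P ↔ Rk n Q := by
  constructor
  · rintro ⟨f, hf⟩
    exact ⟨f.comp e.symm.toMonoidHom, hf.comp e.symm.surjective⟩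
  · rintro ⟨f, hf⟩
    exact ⟨f.comp e.toMonoidHom, hf.comp e.surjective⟩

theorem d3_of {G H : Type u} [Group G] [Group H] (e : G ≃* H) (h : D3 G) : D3 H := by
  intro Q
  let P : Sylow 2 G := Q.comapOfInjective e.toMonoidHom e.injective (by
    intro x _
    exact e.surjective x)
  have h1 := h P
  have e1 : (P : Subgroup G) ≃* (Q : Subgroup H) := by
    have h2 : (P : Subgroup G).map e.toMonoidHom = Q := by
      show ((Q : Subgroup H).comap e.toMonoidHom).map e.toMonoidHom = Q
      exact Subgroup.map_comap_eq_self_of_surjective e.surjective _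
    exact ((P : Subgroup G).equivMapOfInjective e.toMonoidHom e.injective).trans (MulEquiv.subgroupCongr h2)
  exact (rk_congr e1 3).1 h1

theorem d3_congr {G H : Type u} [Group G] [Group H] (e : G ≃* H) : D3 G ↔ D3 H := ⟨d3_of e, d3_of e.symm⟩

variable {G : Type u} [Group G] [Finite G]

/-- three fixed good characters -/
theorem ginv3_iff (S : Subgroup G) [S.Normal] (x : G) : GInv3 (MulAut.conjNormal x : MulAut S) ↔ 3 ≤ (gsx S x).ncard := by
  have hfin := gsx_finite S x
  constructor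
  · rintro ⟨χ, hinj, hχ⟩
    have h1 : Set.range χ ⊆ gsx S x := by
      rintro _ ⟨i, rfl⟩
      exact ⟨(hχ i).1, (hχ i).2⟩
    have h2 := Set.ncard_le_ncard h1 hfin
    rwa [← Set.image_univ, Set.ncard_image_of_injective _ hinj, Set.ncard_univ, Nat.card_eq_fintype_card, Fintype.card_fin]
      at h2
  · intro h
    obtain ⟨T, hT, hT3⟩ := Set.exists_subset_card_eq h
    have hTf : T.Finite := hfin.subset hT
    have e : Fin 3 ≃ T := by
      have h3 : Nat.card T = 3 := by rw [Nat.card_coe_set_eq, hT3]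
      have hT' : Finite T := hTf
      exact (Finite.equivFinOfCardEq h3).symm
    refine ⟨fun i => (e i : S → ℂ), fun i j hij => e.injective (Subtype.ext hij), fun i => ?_⟩
    exact ⟨(hT (e i).2).1, (hT (e i).2).2⟩

theorem simple_cyclic_of (S : Subgroup G) [S.Normal] (hC : centralizer (S : Set G) = ⊥) (hrow : Row S) (x : G)
    (hx : S ⊔ zpowers x = ⊤) (hS2 : S = pResidual 2 G) (hne : S ≠ ⊤)
    (hres : fg G = 2 * (gsx S x).ncard) : TT G := by
  obtain ⟨τ, hτ⟩ : ∃ τ : MulAut S, τ = MulAut.conjNormal x := ⟨_, rfl⟩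
  have hpow : ∀ k : ℕ, τ ^ k = MulAut.conjNormal (x ^ k) := fun k => by rw [hτ, map_pow]
  have htwo : TwoPow τ := by
    obtain ⟨k, m, hm, hkm⟩ := Nat.exists_eq_two_pow_mul_odd (orderOf_pos x).ne'
    have h1 : x ^ 2 ^ k ∈ S := by
      rw [hS2]
      refine Subgroup.subset_closure ?_
      show Nat.Coprime (orderOf (x ^ 2 ^ k)) 2
      rw [orderOf_pow, hkm, Nat.gcd_eq_right (Dvd.intro _ rfl), Nat.mul_div_cancel_left _ (by positivity)]
      exact Nat.coprime_two_right.2 hm
    refine ⟨k, ⟨x ^ 2 ^ k, h1⟩, fun y => ?_⟩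
    rw [hpow]
    rfl
  have hninn : ¬ IsInn τ := by
    rintro ⟨s, hs⟩
    apply hne
    have h1 : (s : G)⁻¹ * x ∈ centralizer (S : Set G) := by
      rw [Subgroup.mem_centralizer_iff]
      intro y hy
      have h2 : (τ ⟨y, hy⟩ : S) = s * ⟨y, hy⟩ * s⁻¹ := hs ⟨y, hy⟩
      have h3 : x * y * x⁻¹ = s * y * (s : G)⁻¹ := by
        rw [hτ] at h2
        exact congrArg Subtype.val h2
      have h4 : x * y = s * y * (s : G)⁻¹ * x := by rw [← h3]; group
      calc y * ((s : G)⁻¹ * x) = (s : G)⁻¹ * (s * y * (s : G)⁻¹ * x) := by group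
        _ = (s : G)⁻¹ * (x * y) := by rw [h4]
        _ = _ := by group
    rw [hC, Subgroup.mem_bot, inv_mul_eq_one] at h1
    rw [eq_top_iff, ← hx, sup_le_iff]
    refine ⟨le_rfl, ?_⟩
    rw [Subgroup.zpowers_le, ← h1]
    exact s.2
  -- the isomorphism
  have hker : Function.Injective (MulAut.conjNormal : G →* MulAut S) := by
    rw [← MonoidHom.ker_eq_bot_iff, eq_bot_iff, ← hC]
    intro g hg
    rw [Subgroup.mem_centralizer_iff]
    intro y hy
    have h1 : (MulAut.conjNormal g : MulAut S) ⟨y, hy⟩ = ⟨y, hy⟩ := by rw [MonoidHom.mem_ker.1 hg]; rfl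
    have h2 : g * y * g⁻¹ = y := congrArg Subtype.val h1
    calc y * g = (g * y * g⁻¹) * g := by rw [h2]
      _ = g * y := by group
  have hrange : (MulAut.conjNormal : G →* MulAut S).range = AutExt τ := by
    rw [MonoidHom.range_eq_map, ← hx, Subgroup.map_sup, MonoidHom.map_zpowers, ← hτ, AutExt]
    congr 1
    ext σ
    constructor
    · rintro ⟨s, hs, rfl⟩
      refine ⟨⟨s, hs⟩, ?_⟩
      ext y
      rfl
    · rintro ⟨s, rfl⟩
      refine ⟨s, s.2, ?_⟩
      ext y
      rfl
  have e : G ≃* AutExt τ := (MonoidHom.ofInjective hker).trans (MulEquiv.subgroupCongr hrange)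
  have h1 := hrow.ext τ htwo hninn
  rw [ExtRow, ← d3_congr e, hτ, ginv3_iff] at h1
  rw [TT, ← h1, hres]
  omega

end Cfsg.Agent.H901.K547
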